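import Mathlib

/-!
Uniform annihilation of `Γ_I(D / x^n D)`.
-/

set_option autoImplicit false
set_option linter.style.haveILetI false

namespace Groth.Agent.H1Fin

universe u

/-- `I^N` kills the `I`-power torsion of every `M / x^n M`. -/
def Bd {R : Type u} [CommRing R] (I : Ideal R) (x : R) (M : Type u) [AddCommGroup M] [Module R M] : Prop :=
  ∃ N : ℕ, ∀ (n : ℕ) (m : M), (∃ k : ℕ, ∀ a ∈ I ^ k, ∃ y : M, a • m = x ^ n • y) →
    ∀ a ∈ I ^ N, ∃ y : M, a • m = x ^ n • y

variable {D : Type u} [CommRing D]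

/-- The same after inverting the complement of a prime. -/
def BdAt (I : Ideal D) (x : D) (q : Ideal D) : Prop :=
  ∃ N : ℕ, ∀ (n : ℕ) (m : D), (∃ k : ℕ, ∀ a ∈ I ^ k, ∃ s ∉ q, ∃ y : D, s * (a * m) = x ^ n * y) →
    ∀ a ∈ I ^ N, ∃ s ∉ q, ∃ y : D, s * (a * m) = x ^ n * y

/-- The multipliers of `c` into `x^n D` after inverting the complement of `q`. -/
def colonAt (q : Ideal D) [hq : q.IsPrime] (x : D) (n : ℕ) (c : D) : Ideal D where
  carrier := {e | ∃ s ∉ q, ∃ y : D, s * (e * c) = x ^ n * y}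
  zero_mem' := ⟨1, fun h => hq.ne_top ((Ideal.eq_top_iff_one _).2 h), 0, by simp⟩
  add_mem' := by
    rintro a b ⟨s, hs, y, hy⟩ ⟨t, ht, z, hz⟩
    refine ⟨s * t, fun h => (hq.mem_or_mem h).elim hs ht, t * y + s * z, ?_⟩
    linear_combination t * hy + s * hz
  smul_mem' := by
    rintro r a ⟨s, hs, y, hy⟩
    exact ⟨s, hs, r * y, by rw [smul_eq_mul]; linear_combination r * hy⟩

theorem mem_colonAt {q : Ideal D} [q.IsPrime] {x : D} {n : ℕ} {c e : D} :
    e ∈ colonAt q x n c ↔ ∃ s ∉ q, ∃ y : D, s * (e * c) = x ^ n * y := Iff.rfl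

variable [IsDomain D] [IsNoetherianRing D]

/-- The colon ideal `(x^n : c)`. -/
abbrev col (x : D) (n : ℕ) (c : D) : Ideal D :=
  Submodule.colon (Ideal.span {x ^ n} : Submodule D D) ({c} : Set D)

omit [IsDomain D] [IsNoetherianRing D] in
theorem mem_col {x : D} {n : ℕ} {c e : D} : e ∈ col x n c ↔ ∃ y : D, e * c = x ^ n * y := by
  rw [Submodule.mem_colon_singleton, smul_eq_mul, Ideal.mem_span_singleton]
  rfl

/-- A minimal prime of `(x^n : c)` is `(x : y)` for some `y`. -/
theorem exists_eq_col {x : D} (hx : x ≠ 0) {n : ℕ} {c : D} {P : Ideal D}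
    (hP : P ∈ (col x n c).minimalPrimes) : ∃ y : D, P = col x 1 y := by
  obtain ⟨c', hc'⟩ := Submodule.exists_eq_colon_of_mem_minimalPrimes hP
  haveI := hP.1.1
  have hxn : x ^ n ∈ P := hP.1.2 (mem_col.2 ⟨c, rfl⟩)
  have hxP : x ∈ P := hP.1.1.mem_of_pow_mem n hxn
  cases n with
  | zero => exact absurd ((Ideal.eq_top_iff_one _).2 (by simpa using hxn)) hP.1.1.ne_top
  | succ n =>
    obtain ⟨z, hz⟩ := mem_col.1 (show x ∈ col x (n + 1) c' from (le_of_eq hc') hxP)
    obtain rfl : c' = x ^ n * z := mul_left_cancel₀ hx (by rw [hz, pow_succ]; ring)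
    refine ⟨z, ?_⟩
    ext e
    rw [show e ∈ P ↔ e ∈ col x (n + 1) (x ^ n * z) by rw [hc'], mem_col, mem_col]
    refine exists_congr fun y => ?_
    rw [pow_succ, mul_assoc, show e * (x ^ n * z) = x ^ n * (e * z) by ring, pow_one]
    exact ⟨fun h => mul_left_cancel₀ (pow_ne_zero n hx) h, fun h => by rw [h]⟩

omit [IsDomain D] in
theorem finite_colPrimes (x : D) : {P : Ideal D | P.IsPrime ∧ ∃ y : D, P = col x 1 y}.Finite := by
  refine Set.Finite.subset (associatedPrimes.finite D (D ⧸ Ideal.span {x})) ?_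
  rintro P ⟨hP, y, rfl⟩
  refine AssociatedPrimes.mem_iff.2 ((isAssociatedPrime_iff_exists_injective_linearMap _ _).2 ⟨hP, ?_⟩)
  let f : D →ₗ[D] D ⧸ Ideal.span {x} := LinearMap.toSpanSingleton D _ (Ideal.Quotient.mk _ y)
  have hker : LinearMap.ker f = col x 1 y := by
    ext e
    rw [LinearMap.mem_ker, LinearMap.toSpanSingleton_apply, Algebra.smul_def, Ideal.Quotient.algebraMap_eq,
      ← map_mul, Ideal.Quotient.eq_zero_iff_mem, mem_col, Ideal.mem_span_singleton, pow_one]
    rfl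
  refine ⟨Submodule.liftQ _ f (le_of_eq hker.symm), ?_⟩
  rw [← LinearMap.ker_eq_bot, Submodule.ker_liftQ_eq_bot _ _ _ (le_of_eq hker)]

/-- Local bounds at the primes of `V(I)` give a global bound. -/
theorem bd_of_local {I : Ideal D} {x : D} (hxI : x ∈ I) (hx : x ≠ 0)
    (h : ∀ q : Ideal D, q.IsPrime → I ≤ q → BdAt q x q) : Bd I x D := by
  classical
  set S := {P : Ideal D | P.IsPrime ∧ ∃ y : D, P = col x 1 y}
  have hS : S.Finite := finite_colPrimes x
  have main : ∀ q : Ideal D, q ∈ S → BdAt I x q := by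
    suffices ∀ (k : ℕ) (q : Ideal D), q ∈ S → {P ∈ S | P < q}.ncard = k → BdAt I x q from
      fun q hq => this _ q hq rfl
    intro k
    induction k using Nat.strong_induction_on with
    | _ k ih =>
      intro q hq hk
      haveI := hq.1
      by_cases hIq : I ≤ q
      · have hfin : {P ∈ S | P < q}.Finite := hS.subset fun P hP => hP.1
        have hsub : ∀ P ∈ {P ∈ S | P < q}, BdAt I x P := fun P hP =>
          ih {P' ∈ S | P' < P}.ncard (hk ▸ Set.ncard_lt_ncard
            ⟨fun Q hQ => ⟨hQ.1, hQ.2.trans hP.2⟩, fun hss => lt_irrefl P (hss hP).2⟩ hfin) P hP.1 rfl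
        choose N hN using hsub
        obtain ⟨Nq, hNq⟩ := h q hq.1 hIq
        let N' := hfin.toFinset.sup fun P => if hP : P ∈ {P ∈ S | P < q} then N P hP else 0
        refine ⟨Nq + N', fun n m hm => ?_⟩
        show I ^ (Nq + N') ≤ colonAt q x n m
        rw [pow_add]
        refine Ideal.mul_le.2 fun a ha a' ha' => ?_
        -- `a' * m` is supported at `q` only
        have hrad : q ≤ (colonAt q x n (a' * m)).radical := by
          intro b hb
          by_contra hb'
          let T : Submonoid D := q.primeCompl ⊔ Submonoid.powers b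
          have hdisj : Disjoint (col x n (a' * m) : Set D) (T : Set D) := by
            rw [Set.disjoint_left]
            intro e he heT
            obtain ⟨s, hs, _, ⟨j, rfl⟩, rfl⟩ := Submonoid.mem_sup.1 heT
            obtain ⟨y, hy⟩ := mem_col.1 he
            exact hb' ⟨j, mem_colonAt.2 ⟨s, hs, y, by rw [← hy]; ring⟩⟩
          obtain ⟨P₁, hP₁, hle, hdisjP⟩ := Ideal.exists_le_prime_disjoint (col x n (a' * m)) T hdisj
          obtain ⟨P, hP, hPP₁⟩ := Ideal.exists_minimalPrimes_le hle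
          have hPq : P ≤ q := fun e he => by
            by_contra heq
            exact Set.disjoint_left.1 hdisjP (hPP₁ he) (Submonoid.mem_sup_left (show e ∈ q.primeCompl from heq))
          have hbP : b ∉ P := fun he =>
            Set.disjoint_left.1 hdisjP (hPP₁ he) (Submonoid.mem_sup_right (Submonoid.mem_powers b))
          have hlt : P < q := lt_of_le_of_ne hPq fun e => hbP (by rw [e]; exact hb)
          have hmem : P ∈ {P ∈ S | P < q} := ⟨⟨hP.1.1, exists_eq_col hx hP⟩, hlt⟩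
          have hle' : N P hmem ≤ N' := by
            have := Finset.le_sup (f := fun P => if hP : P ∈ {P ∈ S | P < q} then N P hP else 0)
              (hfin.mem_toFinset.2 hmem)
            exact le_of_eq_of_le (dif_pos hmem).symm this
          obtain ⟨k₀, hk₀⟩ := hm
          obtain ⟨s, hs, y, hy⟩ := hN P hmem n m ⟨k₀, fun e he => by
            obtain ⟨s, hs, y, hy⟩ := hk₀ e he
            exact ⟨s, fun h' => hs (hPq h'), y, hy⟩⟩ a' (Ideal.pow_le_pow_right hle' ha')
          exact hs (hP.1.2 (mem_col.2 ⟨y, by rw [← hy]⟩))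
        obtain ⟨k', hk'⟩ := Ideal.exists_pow_le_of_le_radical_of_fg hrad (IsNoetherian.noetherian q)
        obtain ⟨s, hs, y, hy⟩ := hNq n (a' * m) ⟨k', fun e he => mem_colonAt.1 (hk' he)⟩ a
          (Ideal.pow_right_mono hIq Nq ha)
        exact ⟨s, hs, y, by rw [← hy]; ring⟩
      · obtain ⟨b, hbI, hbq⟩ := SetLike.not_le_iff_exists.1 hIq
        refine ⟨0, fun n m ⟨k₀, hk₀⟩ a _ => ?_⟩
        obtain ⟨s, hs, y, hy⟩ := hk₀ (b ^ k₀) (Ideal.pow_mem_pow hbI k₀)
        exact ⟨s * b ^ k₀, fun h' => (hq.1.mem_or_mem h').elim hs (fun h'' => hbq (hq.1.mem_of_pow_mem _ h'')),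
          a * y, by linear_combination a * hy⟩
  choose N hN using main
  refine ⟨hS.toFinset.sup fun P => if hP : P ∈ S then N P hP else 0, fun n m ⟨k₀, hk₀⟩ a ha => ?_⟩
  suffices col x n (a * m) = ⊤ by
    obtain ⟨y, hy⟩ := mem_col.1 (show (1 : D) ∈ col x n (a * m) by rw [this]; trivial)
    exact ⟨y, by rw [smul_eq_mul, smul_eq_mul, ← hy, one_mul]⟩
  by_contra hne
  obtain ⟨P₁, hP₁, hle⟩ := Ideal.exists_le_maximal _ hne
  haveI := hP₁.isPrime
  obtain ⟨P, hP, -⟩ := Ideal.exists_minimalPrimes_le hle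
  have hPS : P ∈ S := ⟨hP.1.1, exists_eq_col hx hP⟩
  obtain ⟨s, hs, y, hy⟩ := hN P hPS n m ⟨k₀, fun e he => by
    obtain ⟨y, hy⟩ := hk₀ e he
    exact ⟨1, fun h' => hP.1.1.ne_top ((Ideal.eq_top_iff_one _).2 h'), y, by rw [one_mul]; exact hy⟩⟩ a
    (Ideal.pow_le_pow_right (by
      have := Finset.le_sup (f := fun P => if hP : P ∈ S then N P hP else 0) (hS.mem_toFinset.2 hPS)
      simpa [dif_pos hPS] using this) ha)
  exact hs (hP.1.2 (mem_col.2 ⟨y, by rw [← hy]⟩))

end Groth.Agent.H1Fin
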