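import Mathlib
import Groth.Agent.H1Fin.Bd
import Groth.Agent.LocH.Depth
import Groth.Agent.LocH.FiniteH
import Groth.Agent.LocH.Transform

/-!
`H^1_I(M)` is finite iff `I^N` kills all `Γ_I(M / x^n M)`.
-/

set_option autoImplicit false
set_option linter.style.haveILetI false

namespace Groth.Agent.H1Fin

universe u

open CategoryTheory CategoryTheory.Limits
open scoped Pointwise

variable {R : Type u} [CommRing R] {I : Ideal R} {x : R} {M : Type u} [AddCommGroup M] [Module R M]

theorem mk_eq_zero_iff {n : ℕ} {m : M} :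
    (Submodule.Quotient.mk m : QuotSMulTop (x ^ n) M) = 0 ↔ ∃ y : M, m = x ^ n • y := by
  rw [Submodule.Quotient.mk_eq_zero, Submodule.mem_smul_pointwise_iff_exists]
  exact ⟨fun ⟨y, _, h⟩ => ⟨y, h.symm⟩, fun ⟨y, h⟩ => ⟨y, Submodule.mem_top, h.symm⟩⟩

/-- `H^0_I` of a module as a submodule. -/
noncomputable abbrev e0 (I : Ideal R) (N : ModuleCat.{u} R) :
    ↑((localCohomology I 0).obj N) ≃ₗ[R] ↥(DRing.torsionSub I N) :=
  ((LocH.zeroIso I).app N).toLinearEquiv

theorem e0_smul_eq_zero (N : ModuleCat.{u} R) (y : ↑((localCohomology I 0).obj N)) (a : R)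
    (h : a • ((e0 I N y : ↥(DRing.torsionSub I N)) : N) = 0) : a • y = 0 := by
  refine (e0 I N).injective ?_
  rw [map_smul, map_zero]
  exact Subtype.ext h

variable [IsNoetherianRing R]

theorem finite_of_bd [Module.Finite R M] (hx : x ∈ I) (hreg : IsSMulRegular M x) (h : Bd I x M) :
    Module.Finite R (LocCoh.H I 1 M) := by
  obtain ⟨N, hN⟩ := h
  refine LocH.finite_of_killed I M 1 (fun i hi => ?_) 1 le_rfl
  obtain rfl | rfl : i = 0 ∨ i = 1 := by omega
  · have := LocH.subsingleton_of_isWeaklyRegular I [x] M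
      ((RingTheory.Sequence.isWeaklyRegular_singleton_iff M x).2 hreg) (by simpa using hx) 0 (by simp)
    exact ⟨0, fun a _ z => @Subsingleton.elim _ this _ _⟩
  · refine ⟨N, fun a ha z => ?_⟩
    obtain ⟨n, hn⟩ := LocH.isPowerTorsion I 1 (ModuleCat.of R M) z
    have hS := LocH.smulSES_shortExact (hreg.pow n)
    obtain ⟨y, rfl⟩ := LocH.exact₁ hS 0 (x := z)
      ((LocH.map_smul_id_apply (x ^ n) 1 z).trans (hn _ (Ideal.pow_mem_pow hx n)))
    refine ((LocH.delta hS 0).map_smul a y).symm.trans ?_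
    suffices a • y = 0 by rw [this, map_zero]; rfl
    refine e0_smul_eq_zero _ y a ?_
    obtain ⟨m, hm⟩ := Submodule.Quotient.mk_surjective _ (e0 I (LocH.smulSES M (x ^ n)).X₃ y).1
    obtain ⟨k, hk⟩ := (e0 I (LocH.smulSES M (x ^ n)).X₃ y).2
    obtain ⟨w, hw⟩ := hN n m ⟨k, fun e he => mk_eq_zero_iff.1 (by
      rw [Submodule.Quotient.mk_smul, hm]; exact hk e he)⟩ a ha
    rw [← hm]
    exact (Submodule.Quotient.mk_smul _ a m).symm.trans (mk_eq_zero_iff.2 ⟨w, hw⟩)

theorem bd_of_finite (hx : x ∈ I) (hreg : IsSMulRegular M x) [Module.Finite R (LocCoh.H I 1 M)] :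
    Bd I x M := by
  have hfin : Module.Finite R ↑((localCohomology I 1).obj (ModuleCat.of R M)) :=
    inferInstanceAs (Module.Finite R (LocCoh.H I 1 M))
  obtain ⟨N, hN⟩ := LocH.exists_pow_killed_of_finite I 1 (ModuleCat.of R M)
  refine ⟨N, fun n m ⟨k, hk⟩ a ha => ?_⟩
  have hS := LocH.smulSES_shortExact (hreg.pow n)
  let Q := (LocH.smulSES M (x ^ n)).X₃
  have hmem : (Submodule.Quotient.mk m : QuotSMulTop (x ^ n) M) ∈ DRing.torsionSub I Q := ⟨k, fun e he => by
    show e • (Submodule.Quotient.mk m : QuotSMulTop (x ^ n) M) = 0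
    rw [← Submodule.Quotient.mk_smul]
    exact mk_eq_zero_iff.2 (hk e he)⟩
  let y := (e0 I Q).symm ⟨_, hmem⟩
  have hd : LocH.delta hS 0 (a • y) = 0 := by rw [map_smul]; exact hN a ha _
  obtain ⟨w, hw⟩ := LocH.exact₃ hS 0 hd
  have h0 : a • y = 0 := by
    have := LocH.subsingleton_of_isWeaklyRegular I [x] M
      ((RingTheory.Sequence.isWeaklyRegular_singleton_iff M x).2 hreg) (by simpa using hx) 0 (by simp)
    rw [← hw, show w = 0 from @Subsingleton.elim _ this _ _, map_zero]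
  have h1 := congrArg (fun z => (e0 I Q z).1) h0
  simp only [map_smul, map_zero, y, LinearEquiv.apply_symm_apply] at h1
  refine mk_eq_zero_iff.1 ?_
  rw [Submodule.Quotient.mk_smul]
  exact h1

end Groth.Agent.H1Fin
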