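import Mathlib
import Groth.Agent.H1Fin.Link
import Groth.Agent.SGA2Fin.Affine
import Groth.Agent.Cohen.Structure
import Groth.Agent.AdicBasics.Dimension
import Groth.Agent.SerreReg.Descent
import Groth.Agent.SkOneMod.Basic

/-!
The local bound from the completion.
-/

set_option autoImplicit false
set_option linter.style.haveILetI false

namespace Groth.Agent.H1Fin

universe u

open IsLocalRing

/-- The complete case. -/
theorem bd_of_complete {C : Type u} [CommRing C] [IsLocalRing C] [IsNoetherianRing C]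
    [IsAdicComplete (maximalIdeal C) C] {x : C} (hx : x ∈ maximalIdeal C) (hreg : IsSMulRegular C x)
    (hass : ∀ P ∈ associatedPrimes C C, (2 : WithBot ℕ∞) ≤ ringKrullDim (C ⧸ P)) :
    Bd (maximalIdeal C) x C := by
  obtain ⟨Λ, _, n, f, hΛ, hf⟩ := Cohen.exists_presentation C (IsNoetherian.noetherian _)
  haveI := Cohen.isRegularLocalRing_coeff hΛ
  haveI := Cohen.isRegularLocalRing_mvPowerSeries Λ n
  haveI := SerreReg.isRegularRing_of_isRegularLocalRing (MvPowerSeries (Fin n) Λ)
  haveI : Module.Finite C (LocCoh.H (maximalIdeal C) 1 C) :=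
    SGA2Fin.finite_of_le_depth (n := 1) f hf (maximalIdeal C) C (fun p hp h1 => by
      rw [Nat.cast_one, ENat.one_le_iff_ne_zero]
      intro h0
      have h2 := hass p.asIdeal ((SkOneMod.mem_associatedPrimes_iff p.asIdeal).2 h0)
      rw [← SGA2Fin.relCodim_maximalIdeal, h1] at h2
      exact absurd h2 (by decide)) 1 le_rfl
  exact bd_of_finite hx hreg

/-- Descent from the completion. -/
theorem bd_of_completion {R : Type u} [CommRing R] [IsLocalRing R] [IsNoetherianRing R] {x : R}
    (hx : x ∈ maximalIdeal R) (hreg : IsSMulRegular R x)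
    (hass : ∀ P ∈ associatedPrimes (AdicCompletion (maximalIdeal R) R) (AdicCompletion (maximalIdeal R) R),
      (2 : WithBot ℕ∞) ≤ ringKrullDim (AdicCompletion (maximalIdeal R) R ⧸ P)) :
    Bd (maximalIdeal R) x R := by
  let C := AdicCompletion (maximalIdeal R) R
  haveI : IsLocalHom (algebraMap R C) := by
    refine ((local_hom_TFAE (algebraMap R C)).out 2 0).1 ?_
    exact (AdicCompletion.maximalIdeal_eq_map (R := R)).ge
  haveI : Module.FaithfullyFlat R C := Module.FaithfullyFlat.of_flat_of_isLocalHom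
  haveI : IsAdicComplete (maximalIdeal C) C := inferInstance
  have hι : ∀ (a b : R), algebraMap R C a ∈ Ideal.span {algebraMap R C b} → a ∈ Ideal.span {b} := fun a b h => by
    rw [← Ideal.comap_map_eq_self_of_faithfullyFlat (B := C) (Ideal.span {b}), Ideal.mem_comap, Ideal.map_span,
      Set.image_singleton]
    exact h
  obtain ⟨N, hN⟩ := bd_of_complete (C := C) (x := algebraMap R C x)
    (by rw [AdicCompletion.maximalIdeal_eq_map]; exact Ideal.mem_map_of_mem _ hx)
    (IsSMulRegular.of_flat_of_isBaseChange (R := R) (S := C) (IsBaseChange.linearMap R C) hreg) hass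
  refine ⟨N, fun n m ⟨k, hk⟩ a ha => ?_⟩
  have hk' : ∀ e ∈ maximalIdeal C ^ k, ∃ y : C, e • algebraMap R C m = algebraMap R C x ^ n • y := by
    let J : Ideal C := Submodule.colon (Ideal.span {algebraMap R C x ^ n} : Submodule C C) ({algebraMap R C m} : Set C)
    suffices maximalIdeal C ^ k ≤ J by
      intro e he
      have := this he
      rw [Submodule.mem_colon_singleton, smul_eq_mul, Ideal.mem_span_singleton] at this
      obtain ⟨y, hy⟩ := this
      exact ⟨y, hy⟩
    rw [AdicCompletion.maximalIdeal_eq_map, ← Ideal.map_pow, Ideal.map_le_iff_le_comap]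
    intro e he
    obtain ⟨y, hy⟩ := hk e he
    rw [Ideal.mem_comap, Submodule.mem_colon_singleton, smul_eq_mul, Ideal.mem_span_singleton]
    exact ⟨algebraMap R C y, by rw [← map_mul, ← map_pow, ← map_mul]; exact congrArg _ hy⟩
  obtain ⟨y, hy⟩ := hN n _ ⟨k, hk'⟩ (algebraMap R C a) (by
    rw [AdicCompletion.maximalIdeal_eq_map, ← Ideal.map_pow]; exact Ideal.mem_map_of_mem _ ha)
  have : a * m ∈ Ideal.span {x ^ n} := hι _ _ (by
    rw [Ideal.mem_span_singleton, map_mul, map_pow]
    exact ⟨y, hy⟩)
  obtain ⟨z, hz⟩ := Ideal.mem_span_singleton.1 this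
  exact ⟨z, hz⟩

/-- The bound at a prime of a domain. -/
theorem bdAt_of_completion {D : Type u} [CommRing D] [IsDomain D] [IsNoetherianRing D] (q : Ideal D) [q.IsPrime]
    {x : D} (hx : x ∈ q) (hx0 : x ≠ 0)
    (hass : ∀ P ∈ associatedPrimes (AdicCompletion (maximalIdeal (Localization.AtPrime q)) (Localization.AtPrime q))
        (AdicCompletion (maximalIdeal (Localization.AtPrime q)) (Localization.AtPrime q)),
      (2 : WithBot ℕ∞) ≤ ringKrullDim (AdicCompletion (maximalIdeal (Localization.AtPrime q)) (Localization.AtPrime q) ⧸ P)) :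
    BdAt q x q := by
  let R := Localization.AtPrime q
  let ι := algebraMap D R
  haveI : IsNoetherianRing R := IsLocalization.isNoetherianRing q.primeCompl _ inferInstance
  haveI : IsDomain R := IsLocalization.isDomain_localization q.primeCompl_le_nonZeroDivisors
  have hinj : Function.Injective ι := IsLocalization.injective R q.primeCompl_le_nonZeroDivisors
  obtain ⟨N, hN⟩ := bd_of_completion (R := R) (x := ι x)
    (by rw [← IsLocalization.AtPrime.map_eq_maximalIdeal q R]; exact Ideal.mem_map_of_mem _ hx)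
    (IsSMulRegular.of_ne_zero ((map_ne_zero_iff _ hinj).2 hx0)) hass
  refine ⟨N, fun n m ⟨k, hk⟩ a ha => ?_⟩
  have hk' : ∀ e ∈ maximalIdeal R ^ k, ∃ y : R, e • ι m = ι x ^ n • y := by
    let J : Ideal R := Submodule.colon (Ideal.span {ι x ^ n} : Submodule R R) ({ι m} : Set R)
    suffices maximalIdeal R ^ k ≤ J by
      intro e he
      have := this he
      rw [Submodule.mem_colon_singleton, smul_eq_mul, Ideal.mem_span_singleton] at this
      obtain ⟨y, hy⟩ := this
      exact ⟨y, hy⟩
    rw [← IsLocalization.AtPrime.map_eq_maximalIdeal q R, ← Ideal.map_pow, Ideal.map_le_iff_le_comap]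
    intro e he
    obtain ⟨s, hs, y, hy⟩ := hk e he
    rw [Ideal.mem_comap, Submodule.mem_colon_singleton, smul_eq_mul, Ideal.mem_span_singleton]
    refine (IsUnit.dvd_mul_left (IsLocalization.map_units R (⟨s, hs⟩ : q.primeCompl))).1 ?_
    exact ⟨ι y, by rw [← map_mul, ← map_mul, ← map_pow, ← map_mul]; exact congrArg ι hy⟩
  obtain ⟨y, hy⟩ := hN n _ ⟨k, hk'⟩ (ι a) (by
    rw [← IsLocalization.AtPrime.map_eq_maximalIdeal q R, ← Ideal.map_pow]; exact Ideal.mem_map_of_mem _ ha)
  obtain ⟨⟨y₀, s⟩, hys⟩ := IsLocalization.surj q.primeCompl y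
  refine ⟨s.1, s.2, y₀, hinj ?_⟩
  rw [map_mul, map_mul, map_mul, map_pow, ← hys]
  rw [smul_eq_mul, smul_eq_mul] at hy
  rw [hy]; ring

end Groth.Agent.H1Fin
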