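import Mathlib
import Groth.Agent.Easy4.PushDev

/-!
Devissage of finite modules to their associated primes for an abstract property.
-/

set_option autoImplicit false
set_option linter.style.haveILetI false
set_option maxHeartbeats 1000000

namespace Groth.Agent.H1Fin.Devis

universe u

open Groth.Agent.Easy4.PushFin (exists_embedding associatedPrimes_subset_of_injective_pi)

variable {A : Type u} [CommRing A] [IsNoetherianRing A]
  (P : ∀ (M : Type u) [AddCommGroup M] [Module A M], Prop)
  (hP0 : ∀ (M : Type u) [AddCommGroup M] [Module A M] [Subsingleton M], P M)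
  (hPsub : ∀ (M N : Type u) [AddCommGroup M] [Module A M] [AddCommGroup N] [Module A N] [Module.Finite A N]
    {φ : M →ₗ[A] N}, Function.Injective φ → P N → P M)
  (hPext : ∀ (M N Q : Type u) [AddCommGroup M] [Module A M] [AddCommGroup N] [Module A N] [Module.Finite A N]
    [AddCommGroup Q] [Module A Q] [Module.Finite A Q] {φ : M →ₗ[A] N}, Function.Injective φ → ∀ {ψ : N →ₗ[A] Q},
    Function.Exact φ ψ → P M → P Q → P N)
  (hPpi : ∀ (M : Type u) (n : ℕ) [AddCommGroup M] [Module A M] [Module.Finite A M], P M → P (Fin n → M))

include hP0 hPsub hPext hPpi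

theorem of_associatedPrimes : ∀ (M : Type u) [AddCommGroup M] [Module A M] [Module.Finite A M],
    (∀ p ∈ associatedPrimes A M, P (A ⧸ p)) → P M := by
  suffices H : ∀ (s : Finset (Ideal A)) (M : Type u) [AddCommGroup M] [Module A M] [Module.Finite A M],
      associatedPrimes A M ⊆ ↑s → (∀ p ∈ associatedPrimes A M, P (A ⧸ p)) → P M by
    intro M _ _ _ h
    exact H (associatedPrimes.finite A M).toFinset M (by simp) h
  intro s
  induction s using Finset.strongInduction with
  | _ s ih =>
    intro M _ _ _ hs hgood
    by_cases hne : (associatedPrimes A M).Nonempty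
    swap
    · haveI : Subsingleton M := by
        by_contra hsub
        haveI := not_subsingleton_iff_nontrivial.1 hsub
        exact hne (associatedPrimes.nonempty A M)
      exact hP0 M
    obtain ⟨p, hp, hmax⟩ := (associatedPrimes.finite A M).exists_maximal hne
    haveI : p.IsPrime := (AssociatedPrimes.mem_iff.1 hp).isPrime
    obtain ⟨G, hG⟩ := (IsNoetherian.noetherian p : p.FG)
    let N : ℕ → Submodule A M := fun i => Submodule.torsionBySet A M (↑(p ^ i) : Set A)
    have hN : ∀ i m, m ∈ N i ↔ ∀ a ∈ p ^ i, a • m = 0 := fun i m =>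
      (Submodule.mem_torsionBySet_iff _ _).trans ⟨fun h a ha => h ⟨a, ha⟩, fun h a => h a.1 a.2⟩
    have hmono : Monotone N := fun i j hij m hm => (hN j m).2 fun a ha => (hN i m).1 hm a (Ideal.pow_le_pow_right hij ha)
    have h1 : P (N 1) := by
      obtain ⟨n, φ, hφ⟩ := exists_embedding p (N 1) (fun a ha m => Subtype.ext ((hN 1 m.1).1 m.2 a (by rwa [pow_one])))
        (fun a ha m hm => by
          by_contra hm0
          obtain ⟨q, hq, hle⟩ := exists_le_isAssociatedPrime_of_isNoetherianRing A m hm0
          have hqM : q ∈ associatedPrimes A M :=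
            associatedPrimes.subset_of_injective (N 1).injective_subtype (AssociatedPrimes.mem_iff.2 hq)
          have hpq : p ≤ q := fun b hb => hle (by
            rw [Submodule.mem_colon_singleton, Submodule.mem_bot]
            exact Subtype.ext ((hN 1 m.1).1 m.2 b (by rwa [pow_one])))
          exact ha (hmax hqM hpq (hle (by rw [Submodule.mem_colon_singleton, Submodule.mem_bot]; exact hm))))
      exact hPsub _ _ hφ (hPpi _ _ (hgood p hp))
    have hall : ∀ i, P (N i) := by
      intro i
      induction i with
      | zero => exact hPsub _ _ (Submodule.inclusion_injective (hmono (Nat.zero_le 1))) h1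
      | succ i hi =>
        let Φ : N (i + 1) →ₗ[A] (Fin G.card → N i) := LinearMap.pi fun j =>
          LinearMap.codRestrict (N i) (((G.equivFin.symm j : A) • LinearMap.id) ∘ₗ (N (i + 1)).subtype) fun m => by
            refine (hN i _).2 fun a ha => ?_
            show a • (G.equivFin.symm j : A) • (m : M) = 0
            rw [← mul_smul]
            exact (hN (i + 1) m.1).1 m.2 _ (pow_succ p i ▸ Ideal.mul_mem_mul ha (hG ▸ Ideal.subset_span (G.equivFin.symm j).2))
        refine hPext _ _ _ (φ := (LinearMap.ker Φ).subtype) Subtype.val_injective (ψ := Φ.rangeRestrict) (fun x => ?_) ?_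
          (hPsub _ _ (LinearMap.range Φ).injective_subtype (hPpi _ _ hi))
        · rw [Submodule.coe_subtype, Subtype.range_coe_subtype]
          exact ⟨fun h => LinearMap.mem_ker.2 (congrArg Subtype.val h), fun h => Subtype.ext (LinearMap.mem_ker.1 h)⟩
        · refine hPsub _ _ (φ := LinearMap.codRestrict (N 1) ((N (i + 1)).subtype ∘ₗ (LinearMap.ker Φ).subtype) fun m => ?_)
            (fun x y h => Subtype.ext (Subtype.ext (congrArg Subtype.val h :))) h1
          refine (hN 1 _).2 fun a ha => ?_
          rw [pow_one, ← hG] at ha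
          induction ha using Submodule.span_induction with
          | mem g hg =>
            have := congrArg Subtype.val (congrFun (LinearMap.mem_ker.1 m.2) (G.equivFin ⟨g, hg⟩))
            simpa [Φ] using this
          | zero => simp
          | add x y _ _ hx hy => rw [add_smul, hx, hy, add_zero]
          | smul c x _ hx => rw [smul_eq_mul, mul_smul, hx, smul_zero]
    obtain ⟨k, hk⟩ := monotone_stabilizes_iff_noetherian.2 (inferInstance : IsNoetherian A M) ⟨N, hmono⟩
    have hstab : ∀ i, N i ≤ N k := fun i => by
      rcases le_total i k with h | h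
      · exact hmono h
      · exact (hk i h).ge
    obtain ⟨H, hH⟩ := (IsNoetherian.noetherian (p ^ k) : (p ^ k).FG)
    let Ψ : (M ⧸ N k) →ₗ[A] (Fin H.card → M) :=
      (N k).liftQ (LinearMap.pi fun j => (H.equivFin.symm j : A) • LinearMap.id) fun m hm => by
        rw [LinearMap.mem_ker]
        funext j
        exact (hN k m).1 hm _ (hH ▸ Ideal.subset_span (H.equivFin.symm j).2)
    have hΨ : Function.Injective Ψ := by
      rw [injective_iff_map_eq_zero]
      intro q hq
      obtain ⟨m, rfl⟩ := Submodule.Quotient.mk_surjective _ q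
      rw [Submodule.Quotient.mk_eq_zero, hN]
      intro a ha
      rw [← hH] at ha
      induction ha using Submodule.span_induction with
      | mem g hg => simpa [Ψ] using congrFun hq (H.equivFin ⟨g, hg⟩)
      | zero => simp
      | add x y _ _ hx hy => rw [add_smul, hx, hy, add_zero]
      | smul c x _ hx => rw [smul_eq_mul, mul_smul, hx, smul_zero]
    have hsub := associatedPrimes_subset_of_injective_pi Ψ hΨ
    have hnot : p ∉ associatedPrimes A (M ⧸ N k) := by
      intro hpq
      obtain ⟨hpp, y, hy⟩ := (isAssociatedPrime_iff_exists_injective_linearMap _ _).1 hpq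
      obtain ⟨m, hm⟩ := Submodule.Quotient.mk_surjective _ (y (Ideal.Quotient.mk p 1))
      have hin : m ∈ N k := hstab (k + 1) ((hN (k + 1) m).2 fun a ha => by
        rw [pow_succ] at ha
        refine Submodule.smul_induction_on ha (fun b hb c hc => ?_) (fun x z hx hz => by rw [add_smul, hx, hz, add_zero])
        rw [smul_eq_mul, mul_smul]
        refine (hN k _).1 ?_ b hb
        rw [← Submodule.Quotient.mk_eq_zero, Submodule.Quotient.mk_smul, hm, ← map_smul]
        have hz : c • (Ideal.Quotient.mk p 1) = (0 : A ⧸ p) := by
          rw [← Ideal.Quotient.mk_eq_mk, ← Submodule.Quotient.mk_smul, Submodule.Quotient.mk_eq_zero, smul_eq_mul, mul_one]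
          exact hc
        rw [hz, map_zero])
      have h0 : Ideal.Quotient.mk p 1 = 0 := hy (by rw [← hm, (Submodule.Quotient.mk_eq_zero _).2 hin, map_zero])
      exact hpp.ne_top ((Ideal.eq_top_iff_one _).2 (Ideal.Quotient.eq_zero_iff_mem.1 h0))
    exact hPext _ _ _ (φ := (N k).subtype) (N k).injective_subtype (ψ := (N k).mkQ) (LinearMap.exact_subtype_mkQ _)
      (hall k) (ih (s.erase p) (Finset.erase_ssubset (hs hp)) (M ⧸ N k)
        (fun q hq => Finset.mem_coe.2 (Finset.mem_erase.2 ⟨fun h => hnot (h ▸ hq), hs (hsub hq)⟩))
        (fun q hq => hgood q (hsub hq)))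

end Groth.Agent.H1Fin.Devis
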