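import Mathlib
import Groth.Agent.H1Fin.Compl
import Groth.Agent.H1Fin.Devis
import Groth.Agent.LocH.Noetherian
import Groth.Agent.Easy3.Excellent

/-!
Finiteness of `H^1_I` from the completions (Kollár's criterion, sufficiency).
-/

set_option autoImplicit false
set_option linter.style.haveILetI false

namespace Groth.Agent.H1Fin

universe u

open CategoryTheory CategoryTheory.Limits IsLocalRing

/-- Every associated prime of the completion has dimension at least two. -/
def CplAss2 (R : Type u) [CommRing R] (J : Ideal R) : Prop :=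
  ∀ P ∈ associatedPrimes (AdicCompletion J R) (AdicCompletion J R),
    (2 : WithBot ℕ∞) ≤ ringKrullDim (AdicCompletion J R ⧸ P)

theorem CplAss2.of_equiv {R S : Type u} [CommRing R] [CommRing S] [IsNoetherianRing R] (e : R ≃+* S) {I : Ideal R}
    {J : Ideal S} (hIJ : I.map e.toRingHom = J) [IsNoetherianRing (AdicCompletion I R)]
    (h : CplAss2 R I) : CplAss2 S J := by
  have hJI : J.map e.symm.toRingHom ≤ I := by
    rw [← hIJ, Ideal.map_map]
    refine (le_of_eq ?_)
    rw [show e.symm.toRingHom.comp e.toRingHom = RingHom.id R from RingHom.ext fun x => e.symm_apply_apply x,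
      Ideal.map_id]
  let E : AdicCompletion I R ≃+* AdicCompletion J S :=
    RingEquiv.ofBijective _ (Easy3.cplMap_bijective I J e hIJ.le hJI)
  haveI : IsNoetherianRing (AdicCompletion J S) := isNoetherianRing_of_ringEquiv _ E
  intro P hP
  obtain ⟨hPp, z, hz⟩ := isAssociatedPrime_iff.1 (AssociatedPrimes.mem_iff.1 hP)
  let P' := P.comap E.toRingHom
  have hP' : P' ∈ associatedPrimes (AdicCompletion I R) (AdicCompletion I R) := by
    refine AssociatedPrimes.mem_iff.2 (isAssociatedPrime_iff.2 ⟨Ideal.comap_isPrime _ _, E.symm z, ?_⟩)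
    ext a
    rw [Submodule.mem_colon_singleton, Submodule.mem_bot, Ideal.mem_comap, hz, Submodule.mem_colon_singleton,
      Submodule.mem_bot, smul_eq_mul, smul_eq_mul, ← map_eq_zero_iff E E.injective, map_mul, E.apply_symm_apply]
    rfl
  refine (h P' hP').trans_eq (ringKrullDim_eq_of_ringEquiv (Ideal.quotientEquiv P' P E ?_))
  exact (Ideal.map_comap_of_surjective E.toRingHom E.surjective P).symm

variable {A : Type u} [CommRing A] [IsNoetherianRing A] (I : Ideal A)


theorem finite_sub (M N : Type u) [AddCommGroup M] [Module A M] [AddCommGroup N] [Module A N] [Module.Finite A N]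
    {φ : M →ₗ[A] N} (hφ : Function.Injective φ) (hN : Module.Finite A (LocCoh.H I 1 N)) :
    Module.Finite A (LocCoh.H I 1 M) := by
  let S : ShortComplex (ModuleCat.{u} A) := ShortComplex.mk (X₁ := ModuleCat.of A M) (X₂ := ModuleCat.of A N)
    (X₃ := ModuleCat.of A (N ⧸ LinearMap.range φ)) (ModuleCat.ofHom φ) (ModuleCat.ofHom (LinearMap.range φ).mkQ)
    (by ext x; exact (Submodule.Quotient.mk_eq_zero _).2 (LinearMap.mem_range_self φ x))
  have hS : S.ShortExact :=
    { exact := by
        rw [ShortComplex.moduleCat_exact_iff]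
        intro y hy
        exact (Submodule.Quotient.mk_eq_zero _).1 hy
      mono_f := (ModuleCat.mono_iff_injective _).2 hφ
      epi_g := (ModuleCat.epi_iff_surjective _).2 (Submodule.mkQ_surjective _) }
  let g := ((localCohomology I 1).map S.f).hom
  haveI : Module.Finite A ↑((localCohomology I 1).obj S.X₂) := inferInstanceAs (Module.Finite A (LocCoh.H I 1 N))
  haveI : IsNoetherian A ↑((localCohomology I 1).obj S.X₂) := inferInstance
  haveI : Module.Finite A ↑((localCohomology I 0).obj S.X₃) := by
    haveI : IsNoetherian A (N ⧸ LinearMap.range φ) := inferInstance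
    haveI : Module.Finite A ↥(DRing.torsionSub I S.X₃) :=
      Module.Finite.iff_fg.2 (IsNoetherian.noetherian (R := A) (M := N ⧸ LinearMap.range φ) _)
    exact Module.Finite.equiv (e0 I S.X₃).symm
  haveI : IsNoetherian A (LinearMap.ker g) := by
    have hle : LinearMap.ker g ≤ LinearMap.range (LocH.delta (I := I) hS 0) := fun z hz => by
      obtain ⟨y, hy⟩ := LocH.exact₁ hS 0 (x := z) hz
      exact ⟨y, hy⟩
    haveI : IsNoetherian A ↑((localCohomology I 0).obj S.X₃) := inferInstance
    haveI : IsNoetherian A ↥(LinearMap.range (LocH.delta (I := I) hS 0)) := isNoetherian_range _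
    exact isNoetherian_of_le hle
  have : IsNoetherian A ↑((localCohomology I 1).obj S.X₁) :=
    isNoetherian_of_range_eq_ker (LinearMap.ker g).subtype g (by rw [Submodule.range_subtype])
  exact (inferInstance : Module.Finite A ↑((localCohomology I 1).obj S.X₁))

theorem finite_ext (M N Q : Type u) [AddCommGroup M] [Module A M] [AddCommGroup N] [Module A N]
    [AddCommGroup Q] [Module A Q] [Module.Finite A Q] {φ : M →ₗ[A] N} (hφ : Function.Injective φ) {ψ : N →ₗ[A] Q}
    (hex : Function.Exact φ ψ) (hM : Module.Finite A (LocCoh.H I 1 M)) (hQ : Module.Finite A (LocCoh.H I 1 Q))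
    [Module.Finite A N] :
    Module.Finite A (LocCoh.H I 1 N) := by
  -- replace `Q` by the image of `ψ`
  let ψ' := ψ.rangeRestrict
  let S : ShortComplex (ModuleCat.{u} A) := ShortComplex.mk (X₁ := ModuleCat.of A M) (X₂ := ModuleCat.of A N)
    (X₃ := ModuleCat.of A (LinearMap.range ψ)) (ModuleCat.ofHom φ) (ModuleCat.ofHom ψ')
    (by ext x; exact hex.apply_apply_eq_zero x)
  have hS : S.ShortExact :=
    { exact := by
        rw [ShortComplex.moduleCat_exact_iff]
        intro y hy
        exact (hex y).1 (congrArg Subtype.val hy)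
      mono_f := (ModuleCat.mono_iff_injective _).2 hφ
      epi_g := (ModuleCat.epi_iff_surjective _).2 ψ.surjective_rangeRestrict }
  haveI : Module.Finite A ↑((localCohomology I 1).obj S.X₁) := hM
  haveI hR : Module.Finite A ↑((localCohomology I 1).obj S.X₃) := by
    exact finite_sub I (LinearMap.range ψ) Q (LinearMap.range ψ).injective_subtype hQ
  haveI : IsNoetherian A ↑((localCohomology I 1).obj S.X₁) := inferInstance
  haveI : IsNoetherian A ↑((localCohomology I 1).obj S.X₃) := inferInstance
  have : IsNoetherian A ↑((localCohomology I 1).obj S.X₂) :=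
    isNoetherian_of_range_eq_ker ((localCohomology I 1).map S.f).hom ((localCohomology I 1).map S.g).hom (by
      ext x
      exact ⟨fun ⟨y, hy⟩ => hy ▸ LocH.map_g_map_f 1 y, fun hx => LocH.exact₂ hS 1 hx⟩)
  exact (inferInstance : Module.Finite A ↑((localCohomology I 1).obj S.X₂))

theorem finite_subsingleton (M : Type u) [AddCommGroup M] [Module A M] [Subsingleton M] :
    Module.Finite A (LocCoh.H I 1 M) := by
  have := LocH.subsingleton_of_isPowerTorsion (I := I) 0 (ModuleCat.of A M)
    (fun m => ⟨0, fun a _ => Subsingleton.elim (α := M) _ _⟩)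
  exact (inferInstance : Module.Finite A ↑((localCohomology I (0 + 1)).obj (ModuleCat.of A M)))

theorem finite_pi (M : Type u) (n : ℕ) [AddCommGroup M] [Module A M] [Module.Finite A M]
    (h : Module.Finite A (LocCoh.H I 1 M)) : Module.Finite A (LocCoh.H I 1 (Fin n → M)) := by
  induction n with
  | zero => exact finite_subsingleton I _
  | succ n ih =>
    let φ : (Fin n → M) →ₗ[A] (Fin (n + 1) → M) :=
      { toFun := fun v => Fin.cons 0 v
        map_add' := fun v w => by ext i; refine Fin.cases ?_ (fun j => ?_) i <;> simp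
        map_smul' := fun r v => by ext i; refine Fin.cases ?_ (fun j => ?_) i <;> simp }
    refine finite_ext I (Fin n → M) (Fin (n + 1) → M) M (φ := φ)
      (fun v w e => funext fun j => by simpa [φ] using congrFun e j.succ)
      (ψ := LinearMap.proj 0) (fun v => ⟨fun hv => ⟨fun j => v j.succ, ?_⟩, ?_⟩) ih h
    · funext i
      refine Fin.cases ?_ (fun j => ?_) i
      · exact hv.symm
      · simp [φ]
    · rintro ⟨w, rfl⟩
      rfl

/-- The prime quotient case. -/
theorem finite_prime (p : Ideal A) [p.IsPrime]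
    (h : ¬ I ≤ p → ∀ (q : Ideal (A ⧸ p)) [q.IsPrime], I.map (Ideal.Quotient.mk p) ≤ q →
      CplAss2 (Localization.AtPrime q) (maximalIdeal (Localization.AtPrime q))) :
    Module.Finite A (LocCoh.H I 1 (A ⧸ p)) := by
  by_cases hIp : I ≤ p
  · have := LocH.subsingleton_of_isPowerTorsion (I := I) 0 (ModuleCat.of A (A ⧸ p)) (fun (m : A ⧸ p) => ⟨1, fun a ha => by
      show a • m = 0
      rw [pow_one] at ha
      rw [Algebra.smul_def, Ideal.Quotient.algebraMap_eq, Ideal.Quotient.eq_zero_iff_mem.2 (hIp ha), zero_mul]⟩)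
    exact (inferInstance : Module.Finite A ↑((localCohomology I (0 + 1)).obj (ModuleCat.of A (A ⧸ p))))
  obtain ⟨x, hxI, hxp⟩ := SetLike.not_le_iff_exists.1 hIp
  let mk := Ideal.Quotient.mk p
  have hx0 : mk x ≠ 0 := fun e => hxp (Ideal.Quotient.eq_zero_iff_mem.1 e)
  obtain ⟨N, hN⟩ := bd_of_local (I := I.map mk) (Ideal.mem_map_of_mem mk hxI) hx0 fun q hq hle => by
    haveI := hq
    exact bdAt_of_completion q (hle (Ideal.mem_map_of_mem mk hxI)) hx0 (h hIp q hle)
  have hsmul : ∀ (a : A) (m : A ⧸ p), a • m = mk a * m := fun a m => by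
    rw [Algebra.smul_def]; rfl
  refine finite_of_bd hxI (fun m₁ m₂ e => mul_left_cancel₀ hx0 (by simpa [hsmul] using e)) ⟨N, fun n m hk a ha => ?_⟩
  obtain ⟨k, hk⟩ := hk
  obtain ⟨y, hy⟩ := hN n m ⟨k, fun a' ha' => by
    rw [← Ideal.map_pow] at ha'
    obtain ⟨a, ha, rfl⟩ := (Ideal.mem_map_iff_of_surjective mk Ideal.Quotient.mk_surjective).1 ha'
    obtain ⟨y, hy⟩ := hk a ha
    exact ⟨y, by rw [smul_eq_mul, smul_eq_mul, ← map_pow, ← hsmul, ← hsmul]; exact hy⟩⟩ (mk a)
      (by rw [← Ideal.map_pow]; exact Ideal.mem_map_of_mem _ ha)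
  exact ⟨y, by rw [hsmul, hsmul, map_pow, ← smul_eq_mul, ← smul_eq_mul]; exact hy⟩

/-- Finiteness of `H^1_I(M)` from the completions of the prime quotients at the primes of `V(I)`. -/
theorem finite_H1 (M : Type u) [AddCommGroup M] [Module A M] [Module.Finite A M]
    (h : ∀ (p : Ideal A) [p.IsPrime], p ∈ associatedPrimes A M → ¬ I ≤ p →
      ∀ (q : Ideal (A ⧸ p)) [q.IsPrime], I.map (Ideal.Quotient.mk p) ≤ q →
      CplAss2 (Localization.AtPrime q) (maximalIdeal (Localization.AtPrime q))) :
    Module.Finite A (LocCoh.H I 1 M) :=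
  Devis.of_associatedPrimes (fun M [AddCommGroup M] [Module A M] => Module.Finite A (LocCoh.H I 1 M))
    (fun M _ _ _ => finite_subsingleton I M)
    (fun M N _ _ _ _ _ _ hφ hN => finite_sub I M N hφ hN)
    (fun M N Q _ _ _ _ _ _ _ _ _ hφ _ hex hM hQ => finite_ext I M N Q hφ hex hM hQ)
    (fun M n _ _ _ hM => finite_pi I M n hM) M
    fun p hp => by
      haveI := (AssociatedPrimes.mem_iff.1 hp).isPrime
      exact finite_prime I p (h p hp)

/-- The local ring of `A/p` at a prime as a quotient of that of `A`. -/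
theorem cplAss2_of_quot (p : Ideal A) [p.IsPrime] (q : Ideal (A ⧸ p)) [q.IsPrime]
    (h : CplAss2 (Localization.AtPrime (q.comap (Ideal.Quotient.mk p)) ⧸
        p.map (algebraMap A (Localization.AtPrime (q.comap (Ideal.Quotient.mk p)))))
      ((maximalIdeal (Localization.AtPrime (q.comap (Ideal.Quotient.mk p)))).map (Ideal.Quotient.mk
        (p.map (algebraMap A (Localization.AtPrime (q.comap (Ideal.Quotient.mk p)))))))) :
    CplAss2 (Localization.AtPrime q) (maximalIdeal (Localization.AtPrime q)) := by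
  set Q := q.comap (Ideal.Quotient.mk p) with hQ
  let L := Localization.AtPrime Q
  let pL := p.map (algebraMap A L)
  have hsub : Algebra.algebraMapSubmonoid (A ⧸ p) Q.primeCompl = q.primeCompl := by
    ext z
    refine ⟨?_, fun hz => ?_⟩
    · rintro ⟨y, hy, rfl⟩
      exact hy
    · obtain ⟨y, rfl⟩ := Ideal.Quotient.mk_surjective z
      exact ⟨y, hz, rfl⟩
  haveI : IsLocalization q.primeCompl (L ⧸ pL) := by
    rw [← hsub]; infer_instance
  let e : (L ⧸ pL) ≃+* Localization.AtPrime q :=
    (IsLocalization.algEquiv q.primeCompl (L ⧸ pL) (Localization.AtPrime q)).toRingEquiv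
  haveI : IsNoetherianRing L := IsLocalization.isNoetherianRing Q.primeCompl _ inferInstance
  haveI : IsNoetherianRing (AdicCompletion ((maximalIdeal L).map (Ideal.Quotient.mk pL)) (L ⧸ pL)) :=
    ResExt.isNoetherianRing_adicCompletion _ (IsNoetherian.noetherian _)
  refine h.of_equiv e ?_
  let g : L →+* Localization.AtPrime q := e.toRingHom.comp (Ideal.Quotient.mk pL)
  have hg : Function.Surjective g := e.surjective.comp Ideal.Quotient.mk_surjective
  rw [Ideal.map_map]
  haveI : IsLocalHom g := hg.isLocalHom g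
  refine le_antisymm ?_ (fun z hz => ?_)
  · exact Ideal.map_le_iff_le_comap.2 fun w hw hu => hw (IsUnit.of_map g w hu)
  · obtain ⟨w, rfl⟩ := hg z
    exact Ideal.mem_map_of_mem _ fun hu => hz (hu.map g)

theorem CplAss2.quot_bot {R : Type u} [CommRing R] [IsNoetherianRing R] {J : Ideal R} (hJ : J = ⊥) {I : Ideal R}
    (h : CplAss2 R I) : CplAss2 (R ⧸ J) (I.map (Ideal.Quotient.mk J)) := by
  haveI : IsNoetherianRing (AdicCompletion I R) :=
    ResExt.isNoetherianRing_adicCompletion _ (IsNoetherian.noetherian _)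
  exact h.of_equiv (RingEquiv.ofBijective (Ideal.Quotient.mk J)
    ⟨(RingHom.injective_iff_ker_eq_bot _).2 (by rw [Ideal.mk_ker, hJ]), Ideal.Quotient.mk_surjective⟩) rfl

end Groth.Agent.H1Fin
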