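import Mathlib
import Groth.Agent.H1Fin.Main
import Groth.Agent.SkOneMod.Basic
import Groth.Agent.FlatDepth.Quot
import Groth.Agent.FlatDepth.CompDescent
import Groth.Agent.S9126
import Groth.Agent.S9228
import Groth.Agent.S2645
import Groth.Agent.S0576
import Groth.Agent.S0566
import Groth.Agent.S4710

/-!
The completion condition from catenarity and (S_1) or reduced formal fibres.
-/

set_option autoImplicit false
set_option linter.style.haveILetI false

namespace Groth.Agent.H1Fin

universe u

open IsLocalRing TensorProduct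

/-- An unmixed completion of dimension at least two. -/
theorem cplAss2_of_equidim {T : Type u} [CommRing T] [IsLocalRing T] [IsNoetherianRing T]
    (hE : EGA4.IsFormallyEquidim T)
    (hmin : ∀ P ∈ associatedPrimes (AdicCompletion (maximalIdeal T) T) (AdicCompletion (maximalIdeal T) T),
      P ∈ minimalPrimes (AdicCompletion (maximalIdeal T) T))
    (hdim : (2 : WithBot ℕ∞) ≤ ringKrullDim T) : CplAss2 T (maximalIdeal T) := fun P hP => by
  rw [hE P (hmin P hP), AdicBasics.ringKrullDim_completion]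
  exact hdim

/-- Reduced rings have no embedded primes. -/
theorem minimal_of_reduced {C : Type u} [CommRing C] [IsNoetherianRing C] [IsReduced C] :
    ∀ P ∈ associatedPrimes C C, P ∈ minimalPrimes C := by
  intro P hP
  obtain ⟨hPp, z, hz⟩ := isAssociatedPrime_iff.1 (AssociatedPrimes.mem_iff.1 hP)
  obtain ⟨P₀, hP₀, hle⟩ := Ideal.exists_minimalPrimes_le (I := (⊥ : Ideal C)) (J := P) bot_le
  suffices P ≤ P₀ by
    rw [le_antisymm this hle]; exact hP₀
  intro a ha
  by_contra ha'
  have hz0 : z ≠ 0 := fun e => hPp.ne_top ((Ideal.eq_top_iff_one _).2 (by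
    rw [hz, Submodule.mem_colon_singleton, e, smul_zero]; exact zero_mem _))
  refine hz0 ?_
  have haz : ∀ b ∈ P, b * z = 0 := fun b hb => by
    rw [hz, Submodule.mem_colon_singleton, Submodule.mem_bot] at hb
    exact hb
  -- `z` lies in every minimal prime
  refine (IsReduced.eq_zero z ?_)
  rw [← mem_nilradical, nilradical_eq_sInf]
  refine Submodule.mem_sInf.2 fun Q hQ => ?_
  have hQp : Ideal.IsPrime Q := hQ
  by_contra hzQ
  have hPQ : P ≤ Q := fun b hb => (hQp.mem_or_mem (by rw [haz b hb]; exact Q.zero_mem)).resolve_right hzQ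
  have hzP : z ∈ P := by
    have : z ∈ P₀ := by
      refine (hP₀.1.1.mem_or_mem (show a * z ∈ P₀ by rw [haz a ha]; exact P₀.zero_mem)).resolve_left ha'
    exact hle this
  exact hzQ (hPQ hzP)

section Quot

variable {A : Type u} [CommRing A] [IsNoetherianRing A] (p : Ideal A) [p.IsPrime] (q : Ideal (A ⧸ p)) [q.IsPrime]

/-- The local ring `A_Q`. -/
abbrev L : Type u := Localization.AtPrime (q.comap (Ideal.Quotient.mk p))

/-- The extended ideal. -/
abbrev pL : Ideal (L p q) := p.map (algebraMap A (L p q))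

omit [IsNoetherianRing A] in
theorem pL_isPrime : (pL p q).IsPrime :=
  IsLocalization.isPrime_of_isPrime_disjoint (q.comap (Ideal.Quotient.mk p)).primeCompl (L p q) p inferInstance
    (Set.disjoint_left.2 fun a ha hap => ha (by
      show Ideal.Quotient.mk p a ∈ q
      rw [Ideal.Quotient.eq_zero_iff_mem.2 hap]; exact q.zero_mem))

omit [IsNoetherianRing A] in
theorem two_le_dim (Q : PrimeSpectrum A) (hQ : Q.asIdeal = q.comap (Ideal.Quotient.mk p))
    (hpQ : (⟨p, inferInstance⟩ : PrimeSpectrum A) ≤ Q)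
    (h : (2 : ℕ∞) ≤ Order.height (⟨Q, hpQ⟩ : Set.Ici (⟨p, inferInstance⟩ : PrimeSpectrum A))) :
    (2 : WithBot ℕ∞) ≤ ringKrullDim (L p q ⧸ pL p q) := by
  haveI : IsLocalization q.primeCompl (L p q ⧸ pL p q) := by
    have hsub : Algebra.algebraMapSubmonoid (A ⧸ p) (q.comap (Ideal.Quotient.mk p)).primeCompl = q.primeCompl := by
      ext z
      refine ⟨?_, fun hz => ?_⟩
      · rintro ⟨y, hy, rfl⟩
        exact hy
      · obtain ⟨y, rfl⟩ := Ideal.Quotient.mk_surjective z
        exact ⟨y, hz, rfl⟩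
    rw [← hsub]; infer_instance
  rw [IsLocalization.AtPrime.ringKrullDim_eq_height q (L p q ⧸ pL p q)]
  have hge : (2 : ℕ∞) ≤ q.height := by
    rw [show q.height = Order.height (⟨q, inferInstance⟩ : PrimeSpectrum (A ⧸ p)) from
      PrimeSpectrum.height_eq_orderHeight ⟨q, inferInstance⟩]
    refine h.trans ?_
    let f : Set.Ici (⟨p, inferInstance⟩ : PrimeSpectrum A) → PrimeSpectrum (A ⧸ p) := fun P =>
      ⟨P.1.asIdeal.map (Ideal.Quotient.mk p),
        Ideal.map_isPrime_of_surjective Ideal.Quotient.mk_surjective (by rw [Ideal.mk_ker]; exact P.2)⟩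
    have hcm : ∀ P : Set.Ici (⟨p, inferInstance⟩ : PrimeSpectrum A),
        (f P).asIdeal.comap (Ideal.Quotient.mk p) = P.1.asIdeal := fun P => by
      show (P.1.asIdeal.map (Ideal.Quotient.mk p)).comap _ = _
      rw [Ideal.comap_map_of_surjective _ Ideal.Quotient.mk_surjective, ← RingHom.ker_eq_comap_bot, Ideal.mk_ker]
      exact sup_eq_left.2 P.2
    have hf : StrictMono f := fun P P' hlt => by
      refine lt_of_le_of_ne (Ideal.map_mono hlt.le) fun e => hlt.ne (Subtype.ext (PrimeSpectrum.ext ?_))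
      rw [← hcm P, ← hcm P', e]
    refine (Order.height_le_height_apply_of_strictMono f hf _).trans (le_of_eq ?_)
    have : f ⟨Q, hpQ⟩ = ⟨q, inferInstance⟩ := PrimeSpectrum.ext (by
      show Q.asIdeal.map (Ideal.Quotient.mk p) = q
      rw [hQ, Ideal.map_comap_of_surjective _ Ideal.Quotient.mk_surjective])
    rw [this]
  exact WithBot.coe_le_coe.2 hge

/-- Universally catenary with no embedded primes in the completion. -/
theorem cplAss2_of_catenary (hA : CAlg.IsUniversallyCatenary A) (Q : PrimeSpectrum A)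
    (hQ : Q.asIdeal = q.comap (Ideal.Quotient.mk p)) (hpQ : (⟨p, inferInstance⟩ : PrimeSpectrum A) ≤ Q)
    (h : (2 : ℕ∞) ≤ Order.height (⟨Q, hpQ⟩ : Set.Ici (⟨p, inferInstance⟩ : PrimeSpectrum A)))
    (hmin : ∀ [IsLocalRing (L p q ⧸ pL p q)],
      ∀ P ∈ associatedPrimes (EGA4.Cpl (L p q ⧸ pL p q)) (EGA4.Cpl (L p q ⧸ pL p q)),
        P ∈ minimalPrimes (EGA4.Cpl (L p q ⧸ pL p q))) :
    CplAss2 (Localization.AtPrime q) (maximalIdeal (Localization.AtPrime q)) := by
  haveI := pL_isPrime p q
  haveI : IsNoetherianRing (L p q) :=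
    IsLocalization.isNoetherianRing (q.comap (Ideal.Quotient.mk p)).primeCompl _ inferInstance
  haveI : IsLocalRing (L p q ⧸ pL p q) := IsLocalRing.of_surjective' _ Ideal.Quotient.mk_surjective
  haveI : Algebra.EssFiniteType A (L p q) :=
    Algebra.EssFiniteType.of_isLocalization _ (q.comap (Ideal.Quotient.mk p)).primeCompl
  have hcat := S9228.result (L p q) (S9126.result A (L p q) hA) (pL p q)
  refine cplAss2_of_quot p q ?_
  have hm : (maximalIdeal (L p q)).map (Ideal.Quotient.mk (pL p q)) = maximalIdeal (L p q ⧸ pL p q) :=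
    IsLocalRing.map_maximalIdeal_of_surjective _ Ideal.Quotient.mk_surjective
  rw [hm]
  exact cplAss2_of_equidim hcat hmin (two_le_dim p q Q hQ hpQ h)

/-- (S_1) formal fibres. -/
theorem minimal_of_formalFibres [IsLocalRing (L p q ⧸ pL p q)] [IsDomain (L p q ⧸ pL p q)]
    (hF : EGA4.HasSnFormalFibres 1 (L p q)) :
    ∀ P ∈ associatedPrimes (EGA4.Cpl (L p q ⧸ pL p q)) (EGA4.Cpl (L p q ⧸ pL p q)),
      P ∈ minimalPrimes (EGA4.Cpl (L p q ⧸ pL p q)) := by
  haveI : IsNoetherianRing (L p q) :=
    IsLocalization.isNoetherianRing (q.comap (Ideal.Quotient.mk p)).primeCompl _ inferInstance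
  let T := L p q ⧸ pL p q
  have hT : EGA4.HasSnFormalFibres 1 T := fun r _ => by
    obtain ⟨_, hbij, h⟩ := FlatDepth.formalFibre_quot (L p q) (pL p q) r
    obtain ⟨-, ⟨e⟩⟩ := h r.ResidueField
    let r₀ := r.comap (Ideal.Quotient.mk (pL p q))
    let F := EGA4.formalFibre (L p q) r₀
    haveI : IsNoetherianRing F := by
      haveI : IsNoetherianRing (EGA4.Cpl (L p q)) := AdicBasics.isNoetherianRing_completion (L p q)
      exact FlatDepth.isNoetherianRing_tensor_essFinite (L p q) (EGA4.Cpl (L p q)) r₀.ResidueField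
    have hb : Function.Bijective (Algebra.TensorProduct.includeRight :
        F →ₐ[r₀.ResidueField] r.ResidueField ⊗[_] F) :=
      ⟨Algebra.TensorProduct.includeRight_injective hbij.1, Algebra.TensorProduct.includeRight_surjective _ hbij.2⟩
    let e' : F ≃+* EGA4.formalFibre T r :=
      ((RingEquiv.ofBijective _ hb).trans e.symm).trans (Algebra.TensorProduct.lid r.ResidueField _).toRingEquiv
    exact FlatDepth.hasSk_of_equiv 1 e' (hF r₀)
  have hann : ∀ (C : Type u) [CommRing C], Module.annihilator C C = ⊥ := fun C _ => by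
    rw [eq_bot_iff]
    intro x hx
    simpa using Module.mem_annihilator.1 hx 1
  haveI : IsNoetherianRing (EGA4.Cpl T) := AdicBasics.isNoetherianRing_completion T
  have hS : LocCoh.HasSk 1 T T := SkOneMod.hasSk_one_iff.2 fun P hP => by
    rw [hann]
    exact minimal_of_reduced P hP
  intro P hP
  have := SkOneMod.hasSk_one_iff.1 ((S2645.result 1 T hT).1 hS) P hP
  rwa [hann] at this

/-- Nagata rings. -/
theorem minimal_of_nagata [IsLocalRing (L p q ⧸ pL p q)] [IsDomain (L p q ⧸ pL p q)]
    (hN : CAlg.IsNagata A) :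
    ∀ P ∈ associatedPrimes (EGA4.Cpl (L p q ⧸ pL p q)) (EGA4.Cpl (L p q ⧸ pL p q)),
      P ∈ minimalPrimes (EGA4.Cpl (L p q ⧸ pL p q)) := by
  haveI : IsNoetherianRing (L p q) :=
    IsLocalization.isNoetherianRing (q.comap (Ideal.Quotient.mk p)).primeCompl _ inferInstance
  let T := L p q ⧸ pL p q
  haveI : IsReduced (EGA4.Cpl T) := S0576.result T
    (S0566.result (L p q) (S4710.result A hN (q.comap (Ideal.Quotient.mk p)).primeCompl) T)
  haveI : IsNoetherianRing (EGA4.Cpl T) := AdicBasics.isNoetherianRing_completion T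
  exact minimal_of_reduced

end Quot

end Groth.Agent.H1Fin
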